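import Groth.Agent.H7Blow.BaseChange
import Groth.Agent.H17.RegDescent.Scheme
import Groth.Agent.H17.KoszComp.Scheme
import Groth.Agent.H29Slice.TransBC
import Mathlib

/-!
# Base change of blow-ups in relatively regular centres
-/

set_option autoImplicit false
set_option linter.style.haveILetI false
set_option linter.unusedSectionVars false

universe u

open AlgebraicGeometry CategoryTheory CategoryTheory.Limits TopologicalSpace RingTheory.Sequence

namespace Groth.Agent.H11BlowBC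

open Groth.Agent.H17.RegDescent

variable {P P' S S' Z : Scheme.{u}}

/-- At a point of the centre, two systems of equations generate the same ideal of the local ring. -/
theorem ofList_germ_eq (k : Z ⟶ P) [IsClosedImmersion k] (U U₀ : P.affineOpens) (rs : List Γ(P, U.1))
    (T : List Γ(P, U₀.1)) (hker : k.ker.ideal U = Ideal.ofList rs)
    (hkerT : RingHom.ker (k.app U₀.1).hom = Ideal.ofList T) (hcl₀ : IsClosedImmersion (k ∣_ U₀.1)) (z : Z) :
    ∀ y (hU : y ∈ U.1) (h₀ : y ∈ U₀.1), k z = y → Ideal.ofList (rs.map (P.presheaf.germ U.1 y hU).hom) =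
      Ideal.ofList (T.map (P.presheaf.germ U₀.1 y h₀).hom) := by
  rintro _ hU h₀ rfl
  have hcl : IsClosedImmersion (k ∣_ U.1) := IsZariskiLocalAtTarget.restrict (P := @IsClosedImmersion) inferInstance U.1
  rw [← Ideal.map_ofList, ← Ideal.map_ofList, ← hker, Scheme.Hom.ker_apply, ← hkerT,
    ← H29Slice.ker_stalkMap_of_restrict k U hcl z hU, ← H29Slice.ker_stalkMap_of_restrict k U₀ hcl₀ z h₀]

/-- On a flat, locally finitely presented scheme, equations of a Koszul-regular centre which is flat over the base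
stay Koszul-regular after base change of the base. -/
theorem seq_baseChange (π : P ⟶ S) [Flat π] [LocallyOfFinitePresentation π] (k : Z ⟶ P) [IsClosedImmersion k]
    (hk : RegImm.IsRegularImmersion .koszul k) [Flat (k ≫ π)] {G : P' ⟶ P} {π' : P' ⟶ S'} {h : S' ⟶ S}
    (H : IsPullback G π' π h) (U : P.affineOpens) (rs : List Γ(P, U.1))
    (hrs : LCI.IsKoszulRegularSeq Γ(P, U.1) rs) (hker : k.ker.ideal U = Ideal.ofList rs)
    (V : P'.affineOpens) (eV : V.1 ≤ G ⁻¹ᵁ U.1) :
    LCI.IsKoszulRegularSeq Γ(P', V.1) (rs.map fun r => (G.appLE U.1 V.1 eV).hom r) := by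
  classical
  have hkz : RegImm.Kind.koszul ≠ RegImm.Kind.regular := by decide
  have hqk : RegImm.IsRegularImmersion .quasi k := ⟨hk.1, fun z => by
    obtain ⟨U₁, hz, hcl, l, hl, hker₁⟩ := hk.2 z
    exact ⟨U₁, hz, hcl, l, quasi_of_seq hkz hl, hker₁⟩⟩
  refine seq_descend hkz _ fun m hm => ?_
  obtain ⟨⟨x', hx'V⟩, hx'⟩ : ∃ y : V.1, (V.2.primeIdealOf y).asIdeal = m := by
    have hy : V.2.fromSpec ⟨m, hm.isPrime⟩ ∈ V.1 := V.2.range_fromSpec.le ⟨_, rfl⟩
    exact ⟨⟨_, hy⟩, congrArg PrimeSpectrum.asIdeal (V.2.fromSpec.isOpenEmbedding.injective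
      (V.2.fromSpec_primeIdealOf ⟨_, hy⟩))⟩
  let γ' := (P'.presheaf.germ V.1 x' hx'V).hom
  letI : Algebra Γ(P', V.1) (P'.presheaf.stalk x') := γ'.toAlgebra
  haveI : IsLocalization.AtPrime (P'.presheaf.stalk x') (V.2.primeIdealOf ⟨x', hx'V⟩).asIdeal :=
    V.2.isLocalization_stalk ⟨x', hx'V⟩
  haveI : Module.Flat Γ(P', V.1) (P'.presheaf.stalk x') := flat_germ V x' hx'V
  refine ⟨P'.presheaf.stalk x', inferInstance, inferInstance, inferInstance, ?_, ?_⟩
  · rw [← hx', IsLocalization.AtPrime.map_eq_maximalIdeal (V.2.primeIdealOf ⟨x', hx'V⟩).asIdeal (P'.presheaf.stalk x')]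
    exact (IsLocalRing.maximalIdeal.isMaximal _).ne_top
  let x := G x'
  have hxU : x ∈ U.1 := eV hx'V
  let γ := (P.presheaf.germ U.1 x hxU).hom
  let Gx := (G.stalkMap x').hom
  have hmap : ∀ r, γ' ((G.appLE U.1 V.1 eV).hom r) = Gx (γ r) := fun r => congrArg (fun φ => φ.hom r) (germ_appLE G U.1 V.1 eV x' hx'V)
  have hL : (rs.map fun r => (G.appLE U.1 V.1 eV).hom r).map γ' = (rs.map γ).map Gx := by
    rw [List.map_map, List.map_map]
    exact List.map_congr_left fun r _ => hmap r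
  change RegImm.Kind.koszul.Seq _ ((rs.map fun r => (G.appLE U.1 V.1 eV).hom r).map γ')
  rw [hL]
  by_cases htop : Ideal.ofList ((rs.map γ).map Gx) = ⊤
  · exact seq_of_eq_top hkz htop
  -- so `x` lies on the centre
  have hxk : x ∈ Set.range k := by
    by_contra hx
    have hcl : IsClosedImmersion (k ∣_ U.1) := IsZariskiLocalAtTarget.restrict (P := @IsClosedImmersion) inferInstance U.1
    obtain ⟨D, -, -, -, h1⟩ := exists_ker_eq_top k U hcl x hxU hx
    apply htop
    rw [← Ideal.map_ofList, ← Ideal.map_ofList]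
    rw [← hker, Scheme.Hom.ker_apply, h1, Ideal.map_top]
  obtain ⟨z, hz⟩ := hxk
  obtain ⟨U₀, W₀, e₀, hzU₀, hcl₀, T, hT, hkerT⟩ := H29Slice.exists_transReg_scheme π k ⟨hqk, inferInstance⟩ z
  have hxU₀ : x ∈ U₀.1 := hz ▸ hzU₀
  have hxh : h (π' x') ∈ W₀.1 := by
    rw [← Scheme.Hom.comp_apply, ← H.w, Scheme.Hom.comp_apply]
    exact e₀ hxU₀
  obtain ⟨W', hW', hxW', hW'le⟩ := exists_isAffineOpen_mem_and_subset (U := h ⁻¹ᵁ W₀.1) (x := π' x') hxh
  let C := G ⁻¹ᵁ U₀.1 ⊓ π' ⁻¹ᵁ W'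
  haveI := isIso_pushoutSection_of_isAffineOpen (UY := C) H hW'le e₀ rfl W₀.2 hW' U₀.2
  have hC : IsAffineOpen C := by
    haveI : IsAffine W₀.1.toScheme := W₀.2
    haveI : IsAffine W'.toScheme := hW'
    haveI : IsAffine U₀.1.toScheme := U₀.2
    exact .of_isIso (Scheme.Hom.isPullback_resLE H hW'le e₀ (rfl : C = _)).isoPullback.hom
  have hpush := (isIso_pushoutSection_iff (UY := C) H hW'le e₀ rfl).mp inferInstance
  have hx'C : x' ∈ C := ⟨hxU₀, hxW'⟩
  have hTC : IsWeaklyRegular Γ(P', C) (T.map (G.appLE U₀.1 C inf_le_left).hom) := by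
    letI := (π.appLE W₀.1 U₀.1 e₀).hom.toAlgebra
    letI := (h.appLE W₀.1 W' hW'le).hom.toAlgebra
    letI := (G.appLE U₀.1 C inf_le_left).hom.toAlgebra
    letI := (π'.appLE W' C inf_le_right).hom.toAlgebra
    letI : Algebra Γ(S, W₀.1) Γ(P', C) := (π.appLE W₀.1 U₀.1 e₀ ≫ G.appLE U₀.1 C inf_le_left).hom.toAlgebra
    haveI : IsScalarTower Γ(S, W₀.1) Γ(P, U₀.1) Γ(P', C) := IsScalarTower.of_algebraMap_eq' rfl
    haveI : IsScalarTower Γ(S, W₀.1) Γ(S', W') Γ(P', C) :=
      IsScalarTower.of_algebraMap_eq' (congrArg CommRingCat.Hom.hom hpush.w)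
    haveI : Algebra.IsPushout Γ(S, W₀.1) Γ(S', W') Γ(P, U₀.1) Γ(P', C) :=
      CommRingCat.isPushout_iff_isPushout.mp hpush.flip
    exact H29Slice.isWeaklyRegular_pushout Γ(S, W₀.1) Γ(P, U₀.1) Γ(S', W') Γ(P', C) hT
  let γ₀ := (P.presheaf.germ U₀.1 x hxU₀).hom
  let γC := (P'.presheaf.germ C x' hx'C).hom
  letI : Algebra Γ(P', C) (P'.presheaf.stalk x') := γC.toAlgebra
  haveI : Module.Flat Γ(P', C) (P'.presheaf.stalk x') := flat_germ ⟨C, hC⟩ x' hx'C
  have hLT : (T.map (G.appLE U₀.1 C inf_le_left).hom).map γC = (T.map γ₀).map Gx := by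
    rw [List.map_map, List.map_map]
    exact List.map_congr_left fun r _ => congrArg (fun φ => φ.hom r) (germ_appLE G U₀.1 C inf_le_left x' hx'C)
  have hsT : RegImm.Kind.koszul.Seq (P'.presheaf.stalk x') ((T.map γ₀).map Gx) := by
    have h1 := H29Slice.isKoszulRegular_of_isWeaklyRegular hTC
    have h2 := seq_flat' hkz (P'.presheaf.stalk x') h1
    change RegImm.Kind.koszul.Seq _ ((T.map (G.appLE U₀.1 C inf_le_left).hom).map γC) at h2
    rwa [hLT] at h2
  -- both lists cut out the centre in the local ring of `x`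
  have hid : Ideal.ofList (rs.map γ) = Ideal.ofList (T.map γ₀) :=
    ofList_germ_eq k U U₀ rs T hker hkerT hcl₀ z x hxU hxU₀ hz
  have hne : Ideal.ofList (rs.map γ) ≠ ⊤ := fun h1 => htop (by rw [← Ideal.map_ofList Gx, h1, Ideal.map_top])
  letI : Algebra Γ(P, U.1) (P.presheaf.stalk x) := γ.toAlgebra
  haveI : Module.Flat Γ(P, U.1) (P.presheaf.stalk x) := flat_germ U x hxU
  have hirr : Irred (rs.map γ) := irred_of_quasi (quasi_of_seq hkz (seq_flat' hkz _ hrs)) hne
  have hirr₀ : Irred (T.map γ₀) := by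
    letI : Algebra Γ(P, U₀.1) (P.presheaf.stalk x) := γ₀.toAlgebra
    haveI : Module.Flat Γ(P, U₀.1) (P.presheaf.stalk x) := flat_germ U₀ x hxU₀
    exact irred_of_quasi (quasi_of_seq hkz (seq_flat' hkz _ (H29Slice.isKoszulRegular_of_isWeaklyRegular hT.1)))
      (fun h1 => hne (hid.trans h1))
  have hlen : (rs.map γ).length = (T.map γ₀).length :=
    le_antisymm (length_le_of_irred hirr hid.symm) (length_le_of_irred hirr₀ hid)
  have heq : Ideal.ofList ((T.map γ₀).map Gx) = Ideal.ofList ((rs.map γ).map Gx) := by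
    rw [← Ideal.map_ofList Gx, ← Ideal.map_ofList Gx, hid]
  have hirrT : Irred ((T.map γ₀).map Gx) := irred_of_quasi (quasi_of_seq hkz hsT) (fun h1 => htop (heq.symm.trans h1))
  refine seq_change hkz hsT (irred_of_min fun l hl => ?_) heq (by simpa using hlen)
  have := length_le_of_irred hirrT (hl.trans heq.symm)
  simp only [List.length_map] at this hlen ⊢
  omega

/-- Blow-ups in Koszul-regular centres flat over the base commute with base change of the base. -/
theorem isBlowUp_of_isPullback (π : P ⟶ S) [Flat π] [LocallyOfFinitePresentation π] (k : Z ⟶ P) [IsClosedImmersion k]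
    (hk : RegImm.IsRegularImmersion .koszul k) [Flat (k ≫ π)] {G : P' ⟶ P} {π' : P' ⟶ S'} {h : S' ⟶ S}
    (H : IsPullback G π' π h) {B B' : Scheme.{u}} (b : B ⟶ P) (hb : BlowUp.IsBlowUp b k.ker) (μ : B' ⟶ B)
    (b' : B' ⟶ P') (hB : IsPullback μ b' b G) : BlowUp.IsBlowUp b' (k.ker.comap G) := by
  have hI : RegImm.IsRegularIdeal .koszul k.ker := fun x hx => by
    rw [← SetLike.mem_coe, Scheme.Hom.support_ker] at hx
    obtain ⟨z, rfl⟩ : x ∈ Set.range k := k.isClosedEmbedding.isClosed_range.closure_eq ▸ hx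
    obtain ⟨U, hz, -, l, hl, hker⟩ := hk.2 z
    exact ⟨U, hz, l, hl, (Scheme.Hom.ker_apply k U).trans hker⟩
  have h1 := H7Blow.isBlowUp_iso_comp
    (H7Blow.isBlowUp_baseChange k.ker hI G (fun U rs hrs hker V eV => seq_baseChange π k hk H U rs hrs hker V eV) b hb)
    hB.isoPullback
  rwa [hB.isoPullback_hom_snd] at h1

end Groth.Agent.H11BlowBC
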